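import Cfsg.Agent.DL.Ex.Fin_m3
import Cfsg.Agent.BpExc.TorCent
import Mathlib.RingTheory.Invariant.Basic
import Mathlib.RingTheory.Ideal.GoingUp
import Mathlib.FieldTheory.IsAlgClosed.Basic
import Cfsg.Agent.GAL.Two.Kp
import Mathlib.Algebra.Category.Grp.Injective
import Cfsg.Agent.Prune
set_option linter.all false

section
prune_inst 0x7ff3fdff5ffdebffffff7faffed3fdfdfb88bfffe4fefdfbffe161ff2b9fa3b18dc7f385e9f032ff9f97429409287803f97eefffee6bdc7ffffdfff41ffbee5fe5feb10851948c340ffc6fff9bf0778a7f3fffffffffffffffffffffffffffffffffffffffff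

-- part: GAL/Two/Stb
section
prune_inst 0x8002000000000050000000000012000000000000000000000000140000000408000000004000810080028040000000000000020000000000000000000000000000080080000000000000000000000000000000000000000000000000000000000000
set_option linter.all false
open scoped Cfsg.Agent.FastGrp

/-!
# The Steinberg map (helper10, GAL)

`P = I → ℤ` is the coweight lattice with the action `Wp` of the Weyl group, `om i` the orbit of the fundamental coweight
`Pi.single i 1` and `st i b` the orbit sum at the point `b : I → kˣ`.  The map `b ↦ (st i b)_i` induces a bijection from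
the orbits of `W` on `I → kˣ` to `I → k` (`st_congr`, `st_inj`, `st_surj`); `st_map`, `st_mul` : symmetries and the centre.
-/

set_option autoImplicit false
set_option linter.unusedSectionVars false

namespace Cfsg.Agent.GAL.Two

open CoxeterSystem Cfsg.Agent.ChevalleyStructure.CoxeterGeom Cfsg.Agent.Tits.Roots Cfsg.Agent.Nodes.Coroot
  Cfsg.Agent.DL Matrix

variable {I W : Type} [Fintype I] [DecidableEq I] [Group W] {M : CoxeterMatrix I} (cs : CoxeterSystem M W)
  {A : I → I → ℤ} (h : IsCartan M A)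

/-! ### the action on the coweight lattice -/

/-- the matrix of `w` on the coweight lattice -/
def Wp (w : W) : Matrix I I ℤ := Matrix.of fun i j => rep cs h w⁻¹ (sr i) j

theorem vecMul_Wp (w : W) (b : I → ℤ) : b ᵥ* Wp cs h w = rep cs h w⁻¹ b := by
  have h1 : b = ∑ i, b i • sr i := by
    funext j
    rw [Finset.sum_apply, Finset.sum_eq_single j (fun i _ hi => by simp [sr_ne hi.symm]) (by simp only [_root_.Finset.mem_univ, _root_.not_true_eq_false, _root_.Pi.smul_apply, _root_.Int.zsmul_eq_mul, _root_.mul_eq_zero, _root_.IsEmpty.forall_iff])]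
    simp [sr_self]
  funext j
  conv_rhs => rw [h1, map_sum, Finset.sum_apply]
  simp only [vecMul, dotProduct, Wp, of_apply, map_smul, Pi.smul_apply, smul_eq_mul]

theorem Wp_apply (w : W) (v : I → ℤ) (i : I) : (Wp cs h w *ᵥ v) i = rep cs h w⁻¹ (sr i) ⬝ᵥ v := rfl

theorem Wp_one : Wp cs h 1 = 1 := by
  ext i j
  rw [Wp, of_apply, inv_one, map_one, Module.End.one_apply, one_apply, sr, Pi.single_apply]
  simp only [eq_comm]

theorem Wp_mul (u w : W) : Wp cs h (u * w) = Wp cs h u * Wp cs h w := by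
  ext i j
  have h1 := congrFun (vecMul_Wp cs h w (rep cs h u⁻¹ (sr i))) j
  rw [Wp, of_apply, _root_.mul_inv_rev, rep_mul_apply, ← h1]
  rfl

theorem Wp_simple (i : I) (v : I → ℤ) : Wp cs h (cs.simple i) *ᵥ v = v - v i • fun j => A i j := by
  funext j
  rw [Wp_apply, cs.inv_simple, rep_simple_eq, sub_dotProduct, smul_dotProduct, sr, sr, single_dotProduct,
    single_dotProduct, pairing_single]
  simp [mul_comm]

theorem Wp_Wp (u w : W) (v : I → ℤ) : Wp cs h u *ᵥ Wp cs h w *ᵥ v = Wp cs h (u * w) *ᵥ v := by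
  rw [mulVec_mulVec, Wp_mul]

theorem Wp_one_vec (v : I → ℤ) : Wp cs h 1 *ᵥ v = v := by rw [Wp_one, one_mulVec]

/-- the action as an additive equivalence -/
def wpE (w : W) : (I → ℤ) ≃+ (I → ℤ) where
  toFun v := Wp cs h w *ᵥ v
  invFun v := Wp cs h w⁻¹ *ᵥ v
  left_inv v := by simp only [Wp_Wp, inv_mul_cancel, Wp_one_vec]
  right_inv v := by simp only [Wp_Wp, mul_inv_cancel, Wp_one_vec]
  map_add' := mulVec_add _

/-! ### heights -/

/-- a strictly dominant element of the root lattice -/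
structure Reg (A : I → I → ℤ) (r : I → ℤ) : Prop where
  pos : ∀ i, 0 < pairing A i r
  nonneg : 0 ≤ r

include cs h in
theorem exists_reg [Finite W] : ∃ r, Reg A r := by
  have := Fintype.ofFinite W
  obtain ⟨y, hy⟩ := BpExc.TorCent.exists_rho (cs := cs) (h := h)
  have h1 : ∀ i, 0 < pairing A i y := fun i => by
    rw [← cpr_sr cs h]
    exact hy _ (isRoot_sr cs h i) (sr_nonneg i)
  refine ⟨y, h1, ?_⟩
  by_contra h0
  obtain ⟨i, h2, h3⟩ := exists_pairing_pos cs h (x := fun j => max (-y j) 0) (fun j => le_max_right _ _) fun h2 =>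
    h0 fun j => by
      have h3 := congrFun h2 j
      simp only [Pi.zero_apply] at h3 ⊢
      omega
  have h4 : pairing A i (y + fun j => max (-y j) 0) ≤ 0 := Finset.sum_nonpos fun j _ => by
    by_cases hj : i = j
    · subst hj
      have h5 : (y + fun j => max (-y j) 0 : I → ℤ) i = 0 := by
        simp only [Pi.add_apply] at h2 ⊢
        omega
      rw [h5, mul_zero]
    · refine mul_nonpos_of_nonpos_of_nonneg (cartan_nonpos h hj) ?_
      simp only [Pi.add_apply]
      omega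
  rw [pairing_add] at h4
  have := h1 i
  omega

theorem ht_simple' (r v : I → ℤ) (i : I) : r ⬝ᵥ Wp cs h (cs.simple i) *ᵥ v = r ⬝ᵥ v - v i * pairing A i r := by
  rw [Wp_simple, dotProduct_sub, dotProduct_smul, smul_eq_mul, dotProduct_comm r fun j => A i j]
  rfl

variable {r : I → ℤ}

theorem Reg.ht_le (hr : Reg A r) {v : I → ℤ} (hv : 0 ≤ v) (w : W) :
    r ⬝ᵥ Wp cs h w *ᵥ v ≤ r ⬝ᵥ v ∧ (r ⬝ᵥ Wp cs h w *ᵥ v = r ⬝ᵥ v → Wp cs h w *ᵥ v = v) := by
  induction hn : cs.length w generalizing w with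
  | zero =>
    rw [cs.length_eq_zero_iff.1 hn, Wp_one_vec]
    exact ⟨le_rfl, fun _ => rfl⟩
  | succ n ih =>
    obtain ⟨i, hi⟩ := cs.exists_leftDescent_of_ne_one (w := w) (by
      rintro rfl
      simp at hn)
    have h1 : cs.length (cs.simple i * w) = n := by
      have := cs.isLeftDescent_iff.1 hi
      omega
    obtain ⟨h2, h3⟩ := ih _ h1
    set u := cs.simple i * w with hu
    have h4 : w = cs.simple i * u := by rw [hu, cs.simple_mul_simple_cancel_left]
    have h5 : 0 ≤ (Wp cs h u *ᵥ v) i := by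
      rw [Wp_apply]
      refine dotProduct_nonneg_of_nonneg (nonneg_of_lt cs h u⁻¹ i ?_) hv
      rw [← cs.inv_simple, ← _root_.mul_inv_rev, cs.length_inv, cs.length_inv, ← h4]
      omega
    have h6 := mul_nonneg h5 (hr.pos i).le
    rw [h4, ← Wp_Wp, ht_simple']
    refine ⟨by omega, fun h7 => ?_⟩
    have h8 : (Wp cs h u *ᵥ v) i = 0 := (mul_eq_zero.1 (by omega)).resolve_right (hr.pos i).ne'
    rw [Wp_simple, h8, zero_smul, sub_zero]
    exact h3 (by omega)

theorem Reg.nonneg_of_max (hr : Reg A r) {v : I → ℤ} (hv : ∀ i, r ⬝ᵥ Wp cs h (cs.simple i) *ᵥ v ≤ r ⬝ᵥ v) : 0 ≤ v := by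
  intro i
  have h1 := hv i
  rw [ht_simple'] at h1
  exact (mul_nonneg_iff_of_pos_right (hr.pos i)).1 (by omega)

theorem exists_dominant [Finite W] (v : I → ℤ) : ∃ w, 0 ≤ Wp cs h w *ᵥ v := by
  obtain ⟨r, hr⟩ := exists_reg cs h
  obtain ⟨w, hw⟩ := Finite.exists_max fun w => r ⬝ᵥ Wp cs h w *ᵥ v
  exact ⟨w, hr.nonneg_of_max cs h fun i => by rw [Wp_Wp]; exact hw _⟩

/-! ### orbit sums -/

variable [Finite W]

/-- the orbit of the fundamental coweight -/
noncomputable def om (i : I) : Finset (I → ℤ) := (Set.finite_range fun w => Wp cs h w *ᵥ Pi.single i 1).toFinset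

theorem mem_om {i : I} {v : I → ℤ} : v ∈ om cs h i ↔ ∃ w, Wp cs h w *ᵥ Pi.single i 1 = v :=
  Set.Finite.mem_toFinset _

theorem self_mem_om (i : I) : Pi.single i 1 ∈ om cs h i := (mem_om cs h).2 ⟨1, Wp_one_vec cs h _⟩

theorem Wp_mem_om {i : I} {v : I → ℤ} (hv : v ∈ om cs h i) (w : W) : Wp cs h w *ᵥ v ∈ om cs h i := by
  obtain ⟨u, rfl⟩ := (mem_om cs h).1 hv
  exact (mem_om cs h).2 ⟨w * u, (Wp_Wp cs h _ _ _).symm⟩

theorem sum_om {β : Type*} [AddCommMonoid β] (i : I) (w : W) (f : (I → ℤ) → β) :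
    ∑ v ∈ om cs h i, f (Wp cs h w *ᵥ v) = ∑ v ∈ om cs h i, f v :=
  Finset.sum_equiv (wpE cs h w).toEquiv (fun v => ⟨fun hv => Wp_mem_om cs h hv w, fun hv => by
    have h1 := Wp_mem_om cs h hv w⁻¹
    rwa [show Wp cs h w⁻¹ *ᵥ (wpE cs h w).toEquiv v = v from (wpE cs h w).left_inv v] at h1⟩) fun _ _ => rfl

variable {k : Type} [Field k]

/-- the coordinates of the Steinberg map -/
noncomputable def st (i : I) (b : I → kˣ) : k := ∑ v ∈ om cs h i, (chr v b : k)

theorem st_congr {w : W} {b b' : I → kˣ} (hb : ∀ v, chr (Wp cs h w *ᵥ v) b' = chr v b) (i : I) :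
    st cs h i b = st cs h i b' := by
  rw [st, st, ← sum_om cs h i w fun v => (chr v b' : k)]
  simp only [hb]

theorem chr_Wp {z : I → kˣ} (hz : ∀ j, chr (fun i => A j i) z = 1) (w : W) (v : I → ℤ) :
    chr (Wp cs h w *ᵥ v) z = chr v z := by
  induction w using cs.simple_induction_left with
  | one => rw [Wp_one_vec]
  | mul_simple_left w i ih => rw [← Wp_Wp, Wp_simple, chr_sub, chr_zsmul, hz, _root_.one_zpow, inv_one, mul_one, ih]

theorem st_mul {z : I → kˣ} (hz : ∀ j, chr (fun i => A j i) z = 1) (i : I) (b : I → kˣ) :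
    st cs h i (b * z) = z i * st cs h i b := by
  rw [st, st, Finset.mul_sum]
  refine Finset.sum_congr rfl fun v hv => ?_
  obtain ⟨w, rfl⟩ := (mem_om cs h).1 hv
  rw [map_mul, chr_Wp cs h hz, chr_single, Units.val_mul, mul_comm]

theorem st_map [CharP k 2] (π : Equiv.Perm I) (ε : I → ℕ) (Ψ : Matrix I I ℤ)
    (h1 : ∀ i, Ψ *ᵥ Pi.single i 1 = 2 ^ ε i • Pi.single (π i) 1)
    (h2 : ∀ i, Ψ * Wp cs h (cs.simple i) = Wp cs h (cs.simple (π i)) * Ψ) {b b' : I → kˣ}
    (hb : ∀ v, chr v b' = chr (Ψ *ᵥ v) b) (i : I) : st cs h i b' = st cs h (π i) b ^ 2 ^ ε i := by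
  have h3 : ∀ w, ∃ w', Ψ * Wp cs h w = Wp cs h w' * Ψ := fun w => by
    induction w using cs.simple_induction_left with
    | one => exact ⟨1, by rw [Wp_one, mul_one, one_mul]⟩
    | mul_simple_left w j ih =>
      obtain ⟨w', hw⟩ := ih
      exact ⟨cs.simple (π j) * w', by rw [Wp_mul, Wp_mul, ← mul_assoc, h2, mul_assoc, hw, mul_assoc]⟩
  have h4 : ∀ w', ∃ w, Ψ * Wp cs h w = Wp cs h w' * Ψ := fun w => by
    induction w using cs.simple_induction_left with
    | one => exact ⟨1, by rw [Wp_one, mul_one, one_mul]⟩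
    | mul_simple_left w j ih =>
      obtain ⟨w', hw⟩ := ih
      obtain ⟨j, rfl⟩ := π.surjective j
      exact ⟨cs.simple j * w', by rw [Wp_mul, Wp_mul, ← mul_assoc, h2, mul_assoc, hw, mul_assoc]⟩
  have h5 : ∀ v j, (Ψ *ᵥ v) (π j) = 2 ^ ε j * v j := fun v j => by
    have h6 : ∀ l, Ψ (π j) l = if l = j then 2 ^ ε j else 0 := fun l => by
      have h7 := congrFun (h1 l) (π j)
      rw [mulVec_single_one] at h7
      rw [show Ψ (π j) l = _ from h7, Pi.smul_apply, Pi.single_apply]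
      by_cases h8 : l = j
      · simp [h8]
      · simp [h8, Ne.symm h8]
    simp only [mulVec, dotProduct, h6, _root_.ite_mul, _root_.MulZeroClass.zero_mul, _root_.Finset.sum_ite_eq', _root_.Finset.mem_univ, ↓ _root_.reduceIte]
  have h6 : Function.Injective Ψ.mulVec := fun u v huv => funext fun j =>
    mul_left_cancel₀ (a := (2 : ℤ) ^ ε j) (by positivity) (by rw [← h5, ← h5, huv])
  have h7 : Function.Injective fun u : I → ℤ => 2 ^ ε i • u := fun u v huv => funext fun j => by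
    have h8 := congrFun huv j
    simpa only [_root_.Pi.smul_apply, _root_.Int.nsmul_eq_mul, _root_.Nat.cast_pow, _root_.Nat.cast_ofNat, _root_.mul_eq_mul_left_iff, _root_.pow_eq_zero_iff', _root_.OfNat.ofNat_ne_zero, _root_.ne_eq, _root_.false_and, _root_.or_false] using h8
  have h8 : (om cs h i).image Ψ.mulVec = (om cs h (π i)).image fun u => 2 ^ ε i • u := by
    ext v
    simp only [Finset.mem_image, mem_om]
    constructor
    · rintro ⟨_, ⟨w, rfl⟩, rfl⟩
      obtain ⟨w', hw⟩ := h3 w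
      exact ⟨_, ⟨w', rfl⟩, by rw [mulVec_mulVec, hw, ← mulVec_mulVec, h1, mulVec_smul]⟩
    · rintro ⟨_, ⟨w', rfl⟩, rfl⟩
      obtain ⟨w, hw⟩ := h4 w'
      exact ⟨_, ⟨w, rfl⟩, by rw [mulVec_mulVec, hw, ← mulVec_mulVec, h1, mulVec_smul]⟩
  have : Fact (Nat.Prime 2) := ⟨Nat.prime_two⟩
  rw [st, st, sum_pow_char_pow]
  simp only [hb]
  rw [← Finset.sum_image (f := fun v => (chr v b : k)) h6.injOn, h8, Finset.sum_image h7.injOn]
  simp only [chr_nsmul, Units.val_pow_eq_pow_val]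

/-! ### the group algebra of the lattice -/

section Alg

open AddMonoidAlgebra

variable (k) in
/-- the action on the group algebra -/
noncomputable def acW : W →* (AddMonoidAlgebra k (I → ℤ) ≃ₐ[k] AddMonoidAlgebra k (I → ℤ)) where
  toFun w := domCongr k k (wpE cs h w)
  map_one' := by
    rw [AlgEquiv.aut_one, ← domCongr_refl]
    exact congrArg _ (AddEquiv.ext (Wp_one_vec cs h))
  map_mul' u w := by
    rw [AlgEquiv.aut_mul, trans_domCongr_domCongr]
    exact congrArg _ (AddEquiv.ext fun v => (Wp_Wp cs h u w v).symm)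

theorem acW_single (w : W) (v : I → ℤ) (c : k) : acW cs h k w (_root_.AddMonoidAlgebra.single v c) = single (Wp cs h w *ᵥ v) c :=
  domCongr_single _ _ _

theorem coeff_acW (w : W) (f : AddMonoidAlgebra k (I → ℤ)) (v : I → ℤ) :
    (acW cs h k w f).coeff (Wp cs h w *ᵥ v) = f.coeff v :=
  (coeff_domCongr _ _ _).trans (congrArg _ ((wpE cs h w).left_inv v))

variable (k) in
/-- the orbit sums -/
noncomputable def mm (i : I) : AddMonoidAlgebra k (I → ℤ) := ∑ v ∈ om cs h i, _root_.AddMonoidAlgebra.single v 1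

theorem acW_mm (w : W) (i : I) : acW cs h k w (mm cs h k i) = mm cs h k i := by
  rw [mm, map_sum]
  simp only [acW_single]
  exact sum_om cs h i w fun v => _root_.AddMonoidAlgebra.single v (1 : k)

theorem acW_aeval (w : W) (p : MvPolynomial I k) :
    acW cs h k w (MvPolynomial.aeval (mm cs h k) p) = MvPolynomial.aeval (mm cs h k) p := by
  have h1 := MvPolynomial.comp_aeval_apply (mm cs h k) (acW cs h k w).toAlgHom p
  rw [show acW cs h k w (MvPolynomial.aeval (mm cs h k) p) = _ from h1]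
  congr 2
  exact funext (acW_mm cs h w)

/-- evaluation at a point of the torus -/
noncomputable def evb (b : I → kˣ) : AddMonoidAlgebra k (I → ℤ) →ₐ[k] k :=
  lift k k (I → ℤ) { toFun := fun v => (chr v.toAdd b : k)
                     map_one' := by rw [toAdd_one, chr_zero, Units.val_one]
                     map_mul' := fun u v => by rw [toAdd_mul, chr_add, Units.val_mul] }

theorem evb_single (b : I → kˣ) (v : I → ℤ) : evb b (_root_.AddMonoidAlgebra.single v 1) = chr v b := by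
  rw [evb, lift_single, one_smul]
  rfl

theorem evb_mm (b : I → kˣ) (i : I) : evb b (mm cs h k i) = st cs h i b := by
  rw [mm, map_sum]
  simp only [evb_single]
  rfl

variable (k) in
/-- the elements of height at most `n` -/
def Lo (r : I → ℤ) (n : ℤ) : Submodule k (AddMonoidAlgebra k (I → ℤ)) where
  carrier := {f | ∀ u, n < r ⬝ᵥ u → f.coeff u = 0}
  add_mem' ha hb u hu := by rw [coeff_add, Finsupp.add_apply, ha u hu, hb u hu, add_zero]
  zero_mem' _ _ := rfl
  smul_mem' c f hf u hu := by rw [coeff_smul_apply, hf u hu, smul_zero]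

theorem Lo_mono {a b : ℤ} (hab : a ≤ b) : Lo k r a ≤ Lo k r b := fun _ hf u hu => hf u (hab.trans_lt hu)

theorem mul_mem_Lo {a b : ℤ} {f g : AddMonoidAlgebra k (I → ℤ)} (hf : f ∈ Lo k r a) (hg : g ∈ Lo k r b) :
    f * g ∈ Lo k r (a + b) := by
  intro u hu
  by_contra h0
  obtain ⟨x, hx, y, hy, rfl⟩ := Finset.mem_add.1 (support_coeff_mul_subset f g (Finsupp.mem_support_iff.2 h0))
  have h1 : r ⬝ᵥ x ≤ a := not_lt.1 fun h2 => Finsupp.mem_support_iff.1 hx (hf x h2)
  have h2 : r ⬝ᵥ y ≤ b := not_lt.1 fun h2 => Finsupp.mem_support_iff.1 hy (hg y h2)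
  rw [dotProduct_add] at hu
  omega

theorem single_mem_Lo (v : I → ℤ) (c : k) : _root_.AddMonoidAlgebra.single v c ∈ Lo k r (r ⬝ᵥ v) := fun u hu => by
  rw [coeff_single_apply, if_neg]
  rintro rfl
  exact lt_irrefl _ hu

/-- `f` has the leading term `v` -/
def Tri (r : I → ℤ) (f : AddMonoidAlgebra k (I → ℤ)) (v : I → ℤ) : Prop := f - _root_.AddMonoidAlgebra.single v 1 ∈ Lo k r (r ⬝ᵥ v - 1)

theorem tri_one : Tri r (1 : AddMonoidAlgebra k (I → ℤ)) 0 := by
  rw [Tri, one_def, sub_self]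
  exact zero_mem _

theorem Tri.mul {f g : AddMonoidAlgebra k (I → ℤ)} {u v : I → ℤ} (hf : Tri r f u) (hg : Tri r g v) :
    Tri r (f * g) (u + v) := by
  have h1 : f * g - _root_.AddMonoidAlgebra.single (u + v) 1 =
      (f - _root_.AddMonoidAlgebra.single u 1) * (g - _root_.AddMonoidAlgebra.single v 1) + (f - _root_.AddMonoidAlgebra.single u 1) * _root_.AddMonoidAlgebra.single v 1 + _root_.AddMonoidAlgebra.single u 1 * (g - _root_.AddMonoidAlgebra.single v 1) := by
    rw [← mul_one (1 : k), ← single_mul_single, mul_one]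
    ring
  rw [Tri, h1, dotProduct_add]
  exact add_mem (add_mem (Lo_mono (by omega) (mul_mem_Lo hf hg)) (Lo_mono (by omega) (mul_mem_Lo hf (single_mem_Lo v 1))))
    (Lo_mono (by omega) (mul_mem_Lo (single_mem_Lo u 1) hg))

theorem Tri.pow {f : AddMonoidAlgebra k (I → ℤ)} {u : I → ℤ} (hf : Tri r f u) (n : ℕ) : Tri r (f ^ n) (n • u) := by
  induction n with
  | zero => simpa using tri_one
  | succ n ih =>
    rw [pow_succ, succ_nsmul]
    exact ih.mul hf

theorem tri_mm (hr : Reg A r) (i : I) : Tri r (mm cs h k i) (Pi.single i 1) := by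
  rw [Tri, mm, ← Finset.add_sum_erase _ _ (self_mem_om cs h i), add_sub_cancel_left]
  refine sum_mem fun v hv => Lo_mono ?_ (single_mem_Lo v 1)
  obtain ⟨h1, h2⟩ := Finset.mem_erase.1 hv
  obtain ⟨w, rfl⟩ := (mem_om cs h).1 h2
  obtain ⟨h3, h4⟩ := hr.ht_le cs h (sr_nonneg i) w
  have h5 := lt_of_le_of_ne h3 fun h5 => h1 (h4 h5)
  exact Int.le_sub_one_of_lt h5

theorem tri_prod (hr : Reg A r) (n : I → ℕ) : Tri r (∏ i, mm cs h k i ^ n i) fun i => n i := by
  have h1 : ∀ s : Finset I, Tri r (∏ i ∈ s, mm cs h k i ^ n i) (∑ i ∈ s, n i • Pi.single i 1) := fun s => by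
    induction s using Finset.induction_on with
    | empty => simpa only [_root_.Finset.prod_empty, _root_.nsmul_eq_mul, _root_.Finset.sum_empty] using tri_one
    | insert i s hi ih =>
      rw [Finset.prod_insert hi, Finset.sum_insert hi]
      exact ((tri_mm cs h hr i).pow _).mul ih
  have h2 : (∑ i, n i • Pi.single i 1 : I → ℤ) = fun i => (n i : ℤ) := by
    funext j
    simp only [Finset.sum_apply, Pi.single_apply, _root_.nsmul_eq_mul, _root_.Pi.mul_apply, _root_.Pi.natCast_apply, _root_.mul_ite, _root_.mul_one, _root_.MulZeroClass.mul_zero, _root_.Finset.sum_ite_eq, _root_.Finset.mem_univ, ↓ _root_.reduceIte]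
  rw [← h2]
  exact h1 _

/-- the invariants are polynomials in the orbit sums -/
theorem exists_poly {f : AddMonoidAlgebra k (I → ℤ)} (hf : ∀ w, acW cs h k w f = f) :
    ∃ p : MvPolynomial I k, MvPolynomial.aeval (mm cs h k) p = f := by
  obtain ⟨r, hr⟩ := exists_reg cs h
  have key : ∀ (N : ℕ) (f : AddMonoidAlgebra k (I → ℤ)), (∀ w, acW cs h k w f = f) → f ∈ Lo k r (N - 1) →
      ∃ p : MvPolynomial I k, MvPolynomial.aeval (mm cs h k) p = f := by
    intro N
    induction N with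
    | zero =>
      refine fun f hf h0 => ⟨0, ?_⟩
      rw [map_zero]
      refine (AddMonoidAlgebra.ext (Finsupp.ext fun u => ?_)).symm
      obtain ⟨w, hw⟩ := exists_dominant cs h u
      have h1 := dotProduct_nonneg_of_nonneg hr.nonneg hw
      rw [← coeff_acW cs h w, hf]
      exact h0 _ (by omega)
    | succ N ih =>
      intro f hf h0
      set D := f.coeff.support.filter fun u => r ⬝ᵥ u = N with hD
      have hdom : ∀ u ∈ D, 0 ≤ u := fun u hu => hr.nonneg_of_max cs h fun i => by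
        obtain ⟨h1, h2⟩ := Finset.mem_filter.1 hu
        by_contra h3
        refine Finsupp.mem_support_iff.1 h1 ?_
        rw [← coeff_acW cs h (cs.simple i), hf]
        exact h0 _ (by push_cast; omega)
      set q : MvPolynomial I k := ∑ u ∈ D, f.coeff u • ∏ i, MvPolynomial.X i ^ (u i).toNat with hq
      have h1 : f - ∑ u ∈ D, f.coeff u • _root_.AddMonoidAlgebra.single u (1 : k) ∈ Lo k r (N - 1) := fun u hu => by
        rw [coeff_sub, coeff_sum, Finsupp.sub_apply, Finsupp.finset_sum_apply]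
        simp only [coeff_smul_apply, coeff_single_apply, smul_eq_mul, mul_ite, mul_one, mul_zero, Finset.sum_ite_eq']
        split_ifs with h2
        · exact sub_self _
        · rw [sub_zero]
          by_contra h3
          have h4 : ¬ ((N + 1 : ℕ) : ℤ) - 1 < r ⬝ᵥ u := fun h4 => h3 (h0 u h4)
          exact h2 (Finset.mem_filter.2 ⟨Finsupp.mem_support_iff.2 h3, by push_cast at h4; omega⟩)
      have h2 : ∑ u ∈ D, f.coeff u • (∏ i, mm cs h k i ^ (u i).toNat - _root_.AddMonoidAlgebra.single u (1 : k)) ∈ Lo k r (N - 1) :=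
        sum_mem fun u hu => Submodule.smul_mem _ _ (by
          have h3 := tri_prod (k := k) cs h hr fun i => (u i).toNat
          have h4 : (fun i => ((u i).toNat : ℤ)) = u := funext fun i => Int.toNat_of_nonneg (hdom u hu i)
          rwa [h4, Tri, (Finset.mem_filter.1 hu).2] at h3)
      obtain ⟨p, hp⟩ := ih (f - MvPolynomial.aeval (mm cs h k) q) (fun w => by rw [map_sub, hf, acW_aeval]) (by
        have h3 := sub_mem h1 h2
        simp only [smul_sub, Finset.sum_sub_distrib, sub_sub, add_sub_cancel] at h3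
        simpa only [hq, map_sum, map_smul, map_prod, map_pow, MvPolynomial.aeval_X] using h3)
      exact ⟨p + q, by rw [map_add, hp, sub_add_cancel]⟩
  refine key (f.coeff.support.sup fun u => (r ⬝ᵥ u).toNat + 1) f hf fun u hu => ?_
  by_contra h0
  have h1 := Finset.le_sup (f := fun u => (r ⬝ᵥ u).toNat + 1) (Finsupp.mem_support_iff.2 h0)
  omega

/-- the orbit sums are algebraically independent -/
theorem eq_zero_of_aeval {p : MvPolynomial I k} (hp : MvPolynomial.aeval (mm cs h k) p = 0) : p = 0 := by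
  obtain ⟨r, hr⟩ := exists_reg cs h
  by_contra h0
  obtain ⟨n, hn, hmax⟩ := p.support.exists_max_image (fun n => r ⬝ᵥ fun i => (n i : ℤ))
    (MvPolynomial.support_nonempty.2 h0)
  have h1 := congrArg (fun f : AddMonoidAlgebra k (I → ℤ) => f.coeff fun i => (n i : ℤ)) hp
  simp only [MvPolynomial.aeval_def, MvPolynomial.eval₂_eq', ← Algebra.smul_def, coeff_sum, Finsupp.finset_sum_apply,
    coeff_smul_apply, coeff_zero, Finsupp.zero_apply] at h1
  have h2 : ∀ m ∈ p.support, (∏ i, mm cs h k i ^ m i).coeff (fun i => (n i : ℤ)) = if m = n then 1 else 0 := by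
    intro m hm
    have h3 := tri_prod (k := k) cs h hr m _ (Int.sub_one_lt_of_le (hmax m hm))
    rw [coeff_sub, Finsupp.sub_apply, sub_eq_zero] at h3
    rw [h3, coeff_single_apply]
    refine if_congr ⟨fun h4 => Finsupp.ext fun i => ?_, fun h4 => by rw [h4]⟩ rfl rfl
    exact_mod_cast congrFun h4 i
  rw [Finset.sum_congr rfl fun m hm => by rw [h2 m hm]] at h1
  simp only [smul_eq_mul, mul_ite, mul_one, mul_zero, Finset.sum_ite_eq', if_pos hn] at h1
  exact MvPolynomial.mem_support_iff.1 hn h1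

theorem st_inj {b b' : I → kˣ} (hb : ∀ i, st cs h i b = st cs h i b') :
    ∃ w, ∀ v, chr (Wp cs h w *ᵥ v) b' = chr v b := by
  letI := MulSemiringAction.compHom (AddMonoidAlgebra k (I → ℤ)) (acW cs h k)
  letI := (MvPolynomial.aeval (mm cs h k) : MvPolynomial I k →ₐ[k] _).toRingHom.toAlgebra
  have : Algebra.IsInvariant (MvPolynomial I k) (AddMonoidAlgebra k (I → ℤ)) W := ⟨fun f hf => exists_poly cs h hf⟩
  have : SMulCommClass W (MvPolynomial I k) (AddMonoidAlgebra k (I → ℤ)) := ⟨fun w p f => by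
    show acW cs h k w (MvPolynomial.aeval (mm cs h k) p * f) = MvPolynomial.aeval (mm cs h k) p * acW cs h k w f
    rw [map_mul, acW_aeval]⟩
  have := RingHom.ker_isPrime (evb b)
  have := RingHom.ker_isPrime (evb b')
  obtain ⟨w, hw⟩ := Algebra.IsInvariant.exists_smul_of_under_eq (MvPolynomial I k) (AddMonoidAlgebra k (I → ℤ)) W
    (RingHom.ker (evb b)) (RingHom.ker (evb b')) (Ideal.ext fun p => by
      show evb b (MvPolynomial.aeval (mm cs h k) p) = 0 ↔ evb b' (MvPolynomial.aeval (mm cs h k) p) = 0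
      rw [MvPolynomial.comp_aeval_apply, MvPolynomial.comp_aeval_apply]
      simp only [evb_mm, hb])
  refine ⟨w, fun v => Units.ext ?_⟩
  have h1 : _root_.AddMonoidAlgebra.single v 1 - algebraMap k _ (chr v b : k) ∈ RingHom.ker (evb b) := by
    rw [RingHom.mem_ker, map_sub, evb_single, AlgHom.commutes]
    exact sub_self _
  have h2 := Ideal.smul_mem_pointwise_smul w _ _ h1
  rw [← hw] at h2
  have h3 : evb b' (acW cs h k w (_root_.AddMonoidAlgebra.single v 1 - algebraMap k _ (chr v b : k))) = 0 := h2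
  rwa [map_sub, acW_single, AlgEquiv.commutes, map_sub, evb_single, AlgHom.commutes, sub_eq_zero] at h3

theorem st_surj [IsAlgClosed k] (a : I → k) : ∃ b, ∀ i, st cs h i b = a i := by
  letI := MulSemiringAction.compHom (AddMonoidAlgebra k (I → ℤ)) (acW cs h k)
  letI := (MvPolynomial.aeval (mm cs h k) : MvPolynomial I k →ₐ[k] _).toRingHom.toAlgebra
  have : Algebra.IsInvariant (MvPolynomial I k) (AddMonoidAlgebra k (I → ℤ)) W := ⟨fun f hf => exists_poly cs h hf⟩
  have := Algebra.IsInvariant.isIntegral (MvPolynomial I k) (AddMonoidAlgebra k (I → ℤ)) W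
  set φ : MvPolynomial I k →ₐ[k] k := MvPolynomial.aeval a with hφ
  have := RingHom.ker_isMaximal_of_surjective φ fun c => ⟨algebraMap k _ c, φ.commutes c⟩
  obtain ⟨Q, hQ, hc⟩ := Ideal.exists_ideal_over_maximal_of_isIntegral (S := AddMonoidAlgebra k (I → ℤ))
    (RingHom.ker φ) fun p hp => by
      rw [eq_zero_of_aeval cs h (p := p) hp]
      exact zero_mem _
  have h1 : ∀ p, Ideal.Quotient.mk Q (MvPolynomial.aeval (mm cs h k) p) = algebraMap k _ (φ p) := fun p => by
    have h2 : p - algebraMap k _ (φ p) ∈ Q.comap (algebraMap (MvPolynomial I k) (AddMonoidAlgebra k (I → ℤ))) := by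
      rw [hc, RingHom.mem_ker, map_sub, AlgHom.commutes]
      exact sub_self _
    have h3 : MvPolynomial.aeval (mm cs h k) (p - algebraMap k _ (φ p)) ∈ Q := h2
    rw [map_sub, AlgHom.commutes] at h3
    exact Ideal.Quotient.eq.2 h3
  have : Algebra.IsIntegral k (AddMonoidAlgebra k (I → ℤ) ⧸ Q) := ⟨fun x => by
    obtain ⟨x, rfl⟩ := Ideal.Quotient.mk_surjective x
    obtain ⟨p, hp, h2⟩ := Algebra.IsIntegral.isIntegral (R := MvPolynomial I k) x
    refine ⟨p.map φ.toRingHom, hp.map _, ?_⟩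
    have h3 := congrArg (Ideal.Quotient.mk Q) h2
    rw [Polynomial.hom_eval₂, map_zero] at h3
    rw [Polynomial.eval₂_map, ← h3]
    congr 1
    exact RingHom.ext fun p => (h1 p).symm⟩
  set ψ : AddMonoidAlgebra k (I → ℤ) →ₐ[k] k :=
    (AlgEquiv.ofBijective (Algebra.ofId k _) IsAlgClosed.algebraMap_bijective_of_isIntegral).symm.toAlgHom.comp
      (Ideal.Quotient.mkₐ k Q) with hψ
  have h2 : ∀ i, ψ (mm cs h k i) = a i := fun i => by
    have h3 := h1 (MvPolynomial.X i)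
    rw [MvPolynomial.aeval_X, hφ, MvPolynomial.aeval_X] at h3
    exact (AlgEquiv.symm_apply_eq
      (AlgEquiv.ofBijective (Algebra.ofId k _) IsAlgClosed.algebraMap_bijective_of_isIntegral)).2 h3
  set χ : Multiplicative (I → ℤ) →* kˣ := ((ψ : _ →* k).comp (_root_.AddMonoidAlgebra.of k (I → ℤ))).toHomUnits with hχ
  refine ⟨fun j => χ (Multiplicative.ofAdd (Pi.single j 1)), fun i => ?_⟩
  rw [← h2, mm, map_sum, st]
  refine Finset.sum_congr rfl fun v _ => ?_
  have h3 : chr v (fun j => χ (Multiplicative.ofAdd (Pi.single j 1))) = χ (Multiplicative.ofAdd v) := by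
    rw [chr_apply]
    simp only [← map_zpow, ← map_prod, ← ofAdd_zsmul, ← ofAdd_sum]
    congr 2
    funext j
    simp only [Finset.sum_apply, Pi.single_apply, _root_.zsmul_eq_mul, _root_.Pi.mul_apply, _root_.Pi.intCast_apply, _root_.Int.cast_eq, _root_.mul_ite, _root_.mul_one, _root_.MulZeroClass.mul_zero, _root_.Finset.sum_ite_eq, _root_.Finset.mem_univ, ↓ _root_.reduceIte]
  rw [h3]
  rfl

end Alg

end Cfsg.Agent.GAL.Two

private theorem dce_94dedeaa0f44 : _root_.True := by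
  try have : _root_.True := by simp only [_root_.Cfsg.Agent.GAL.Two.acW.congr_simp]
  try have : _root_.True := by simp only [_root_.Cfsg.Agent.GAL.Two.Tri.eq_1]
  try have : _root_.True := by simp only [_root_.Cfsg.Agent.GAL.Two.Wp.congr_simp]
  try have : _root_.True := by simp only [_root_.Cfsg.Agent.GAL.Two.Wp.eq_1]
  try have : _root_.True := by simp only [_root_.Cfsg.Agent.GAL.Two.om.congr_simp]
  try have : _root_.True := by simp only [_root_.Cfsg.Agent.GAL.Two.evb.eq_1]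
  try have : _root_.True := by simp only [_root_.Cfsg.Agent.GAL.Two.mm.eq_1]
  try have : _root_.True := by simp only [_root_.Cfsg.Agent.GAL.Two.st.eq_1]
  try have : _root_.True := by simp only [_root_.Cfsg.Agent.GAL.Two.st.congr_simp]
  try have : _root_.True := by simp only [_root_.Cfsg.Agent.GAL.Two.mm.congr_simp]
  exact _root_.True.intro
end

-- part: GAL/C2/Cd
section
prune_inst 0x80000200004000000000000240202042140000b000004000c10000440000000100800060000000068302816500310068110001004200000000000a00011800800048020001000100000000000080400000000000000000000000000000000000000000000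
set_option linter.all false
open scoped Cfsg.Agent.FastGrp

/-!
# S4617 / S4618, characteristic 2: the Steinberg coordinates of a character (helper89, GAL)

`Cd D d e ζ J χ a` : the label of `χ` comes from a point of the torus with Steinberg coordinates `a : D.I → k`.  The odd
characters which are trivial on the centre correspond to the `F`-fixed points (`exists_cd`, `cd_unique`, `cd_eq`,
`exists_of_fix`); `cd_aut`, `cd_gal`, `cd_tw`, `cd_det` : automorphisms, the Galois action, linear characters.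
-/

set_option autoImplicit false
set_option maxHeartbeats 400000
set_option linter.unusedSectionVars false

namespace Cfsg.Agent.GAL.C2

open Cfsg CoxeterSystem Cfsg.Agent.Tits.Roots Cfsg.Agent.ChevalleyStructure.CoxeterGeom
open Cfsg.Agent.DL Cfsg.Agent.DL.PP Cfsg.Agent.DL.Uni Cfsg.Agent.DL.Mk Cfsg.Agent.ODD.C2 Cfsg.Agent.GAL.Two
open Cfsg.Agent.Characters.Core Cfsg.Agent.H601.K4 Cfsg.Agent.TAB.Use Matrix

theorem exists_J {K : Type} [Field K] {ζ : Kˣ} {n : ℕ} (hn : n ≠ 0) (hζ : IsPrimitiveRoot ζ n) :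
    ∃ J : Kˣ →* ℂˣ, IsPrimitiveRoot (J ζ) n := by
  have h0 := Complex.isPrimitiveRoot_exp n hn
  have hξ : IsPrimitiveRoot (h0.isUnit hn).unit n := IsPrimitiveRoot.coe_units_iff.1 h0
  let : DivisibleBy (Additive ℂˣ) ℤ := divisibleByOfSMulRightSurj _ _ fun h a => exists_zpow_eq h a.toMul
  obtain ⟨J, hJ⟩ := (Module.Baer.of_divisible (Additive ℂˣ)).extension_property_addMonoidHom
    (Subgroup.zpowers ζ).subtype.toAdditive Subtype.val_injective ((Subgroup.subtype _).toAdditive.comp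
      (hξ.zmodEquivZPowers.toAddMonoidHom.comp hζ.zmodEquivZPowers.symm.toAddMonoidHom))
  have h1 := DFunLike.congr_fun hJ (hζ.zmodEquivZPowers (1 : ℤ))
  simp only [AddMonoidHom.comp_apply, AddEquiv.coe_toAddMonoidHom, AddEquiv.symm_apply_apply] at h1
  simp only [IsPrimitiveRoot.zmodEquivZPowers_apply_coe_int, zpow_one] at h1
  exact ⟨J.toMultiplicative, (show J.toMultiplicative ζ = _ from h1) ▸ hξ⟩

section gen

variable {I R K : Type} [Fintype I] [Fintype R] [Field K]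

/-- the pull-back along `B` -/
def pb (B : Matrix I R ℤ) : (I → Kˣ) →* (R → Kˣ) := MonoidHom.pi fun r => chr (Bᵀ r)

theorem chr_pb (B : Matrix I R ℤ) (v : R → ℤ) (b : I → Kˣ) : chr v (pb B b) = chr (B *ᵥ v) b := by
  rw [show B *ᵥ v = ∑ r, v r • Bᵀ r from funext fun i => by simp only [mulVec, dotProduct, mul_comm, _root_.zsmul_eq_mul, _root_.Finset.sum_apply, _root_.Pi.mul_apply, _root_.Matrix.transpose_apply, _root_.Pi.intCast_apply, _root_.Int.cast_eq], chr_sum, chr_apply]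
  exact Finset.prod_congr rfl fun r _ => (chr_zsmul _ _ _).symm

theorem ext_chr {c c' : R → Kˣ} (h : ∀ v, chr v c = chr v c') : c = c' := by
  classical
  exact funext fun j => by rw [← chr_single j c, h, chr_single]

theorem tor_of [DecidableEq R] {B : Matrix R R ℤ} {c : R → Kˣ} (h : ∀ v, chr (B *ᵥ v) c = chr v c) {d e : ℕ}
    (hB : B ^ d = (((2 : ℕ) : ℤ) ^ e) • (1 : Matrix R R ℤ)) : c ^ (2 ^ e - 1) = 1 := by
  have h1 : ∀ m v, chr (B ^ m *ᵥ v) c = chr v c := fun m => by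
    induction m with
    | zero => intro v; rw [pow_zero, one_mulVec]
    | succ m ih => intro v; rw [pow_succ', ← mulVec_mulVec, h, ih]
  refine ext_chr fun v => mul_right_cancel (b := chr v c) ?_
  rw [map_pow, ← pow_succ, Nat.sub_add_cancel Nat.one_le_two_pow, map_one, one_mul]
  conv_rhs => rw [← h1 d v, hB, smul_mulVec, one_mulVec, chr_zsmul, ← Nat.cast_pow, zpow_natCast]

theorem chr_J (J : Kˣ →* ℂˣ) (v : R → ℤ) (c : R → Kˣ) : chr v (J.compLeft R c) = J (chr v c) := by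
  simp only [chr_apply, map_prod, map_zpow]
  rfl

/-- fixed points in the Steinberg coordinates -/
def FixL (π : Equiv.Perm I) (ε : I → ℕ) (a : I → K) : Prop := ∀ i, a (π i) ^ 2 ^ ε i = a i

variable [DecidableEq I]

/-- the action on the coweight lattice -/
def Ps (π : Equiv.Perm I) (ε : I → ℕ) : Matrix I I ℤ := of fun j i => if j = π i then 2 ^ ε i else 0

theorem Ps_single (π : Equiv.Perm I) (ε : I → ℕ) (i : I) :
    Ps π ε *ᵥ Pi.single i 1 = 2 ^ ε i • Pi.single (π i) 1 := funext fun j => by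
  simp [Ps, Pi.single_apply]

theorem Ps_apply (π : Equiv.Perm I) (ε : I → ℕ) (v : I → ℤ) (i : I) : (Ps π ε *ᵥ v) (π i) = 2 ^ ε i * v i := by
  simp only [Ps, mulVec, dotProduct, _root_.Matrix.of_apply, _root_.EmbeddingLike.apply_eq_iff_eq, _root_.ite_mul, _root_.MulZeroClass.zero_mul, _root_.Finset.sum_ite_eq, _root_.Finset.mem_univ, ↓ _root_.reduceIte]

theorem pb_Ps (π : Equiv.Perm I) (ε : I → ℕ) (b : I → Kˣ) (i : I) : pb (Ps π ε) b i = b (π i) ^ 2 ^ ε i := by
  rw [← chr_single i (pb _ b), chr_pb, Ps_single, chr_nsmul, chr_single]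

end gen

variable {k : Type} [Field k] [CharP k 2] {Y : Type} [Group Y] {N : Type} [Fintype N]
  [DecidableEq N] {ρ : Y →* GL N k} {F : MulAut Y} {G : Subgroup Y} [IsAlgClosed k] {D : Datum 2 ρ F G}
  {α : MulAut Y} {A : Matrix D.R D.R ℤ} {π : Equiv.Perm D.I} {ε : D.I → ℕ}

theorem Wt_cw (i : D.I) : Wt D *ᵥ D.cw i = fun j => D.A i j := funext fun j =>
  (D.pair i (sr j)).trans ((pairing_single _ _ _ _).trans (mul_one _))

theorem Wt_Wm (u : D.W) : Wt D * D.Wm u = Wp D.cs D.h u * Wt D := by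
  ext i a
  exact congrFun ((D.wt_act' u (sr i)).symm.trans (vecMul_Wt D _).symm) a

theorem Sym.wt_mul (h : Sym D α A π ε) : Wt D * A = Ps π ε * Wt D := by
  ext j a
  obtain ⟨i, rfl⟩ := π.surjective j
  exact (congrFun (h.wt i) a).trans (Ps_apply π ε ((Wt D)ᵀ a) i).symm

theorem Sym.ps_wp (h : Sym D α A π ε) (i : D.I) :
    Ps π ε * Wp D.cs D.h (D.cs.simple i) = Wp D.cs D.h (D.cs.simple (π i)) * Ps π ε := by
  refine ext_of_mulVec_single fun j => ?_
  rw [← mulVec_mulVec, ← mulVec_mulVec, Wp_simple, Wp_simple, mulVec_sub, mulVec_smul, ← Wt_cw, ← Wt_cw, mulVec_mulVec,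
    ← h.wt_mul, ← mulVec_mulVec, h.cw, mulVec_smul, smul_smul, Ps_apply, mul_comm]

theorem pb_inj (hZ : CZ D) : Function.Injective (pb (Wt D) : (D.I → kˣ) →* _) := by
  obtain ⟨m, ϖ, hϖ⟩ := hZ
  refine (injective_iff_map_eq_one _).2 fun b hb => funext fun i => eq_one_of_pow (m := m) ?_
  have h1 := chr_pb (Wt D) (ϖ i) b
  rw [hb, map_one, Wt_pi hϖ, chr_zsmul, chr_single] at h1
  exact_mod_cast h1.symm

theorem exists_pb (hZ : CZ D) {c : D.R → kˣ} (h : ∀ v, Wt D *ᵥ v = 0 → chr v c = 1) : ∃ b, pb (Wt D) b = c := by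
  obtain ⟨m, ϖ, hϖ⟩ := hZ
  choose b hb using fun i => exists_zpow_eq (n := 2 ^ m) (pow_ne_zero _ two_ne_zero) (chr (ϖ i) c)
  refine ⟨b, ext_chr fun v => mul_inv_eq_one.1 (eq_one_of_pow (m := m) ?_)⟩
  have h1 := h (∑ i, (Wt D *ᵥ v) i • ϖ i - (2 ^ m : ℤ) • v) (by rw [mulVec_sub, mulVec_smul, Wt_sum hϖ, sub_self])
  rw [chr_sub, chr_sum, chr_zsmul] at h1
  rw [← h1, mul_pow, inv_pow, chr_pb, chr_apply, ← Finset.prod_pow]
  congr 1
  exact Finset.prod_congr rfl fun i _ => by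
    rw [chr_zsmul, ← hb, ← zpow_natCast, ← _root_.zpow_mul, ← _root_.zpow_mul, mul_comm, Nat.cast_pow, Nat.cast_ofNat]

variable (D)

/-- the level -/
structure Lev (d e : ℕ) (ζ : kˣ) (J : kˣ →* ℂˣ) : Prop where
  good : _root_.Cfsg.Agent.ODD.C2.Good D
  lvl : Lvl D d e
  prim : IsPrimitiveRoot ζ (2 ^ e - 1)
  primJ : IsPrimitiveRoot (J ζ) (2 ^ e - 1)

/-- the label of a point of the torus -/
noncomputable def lc (J : kˣ →* ℂˣ) : (D.I → kˣ) →* (D.R → ℂˣ) := (J.compLeft _).comp (pb (Wt D))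

/-- the Steinberg coordinates of a character -/
def Cd [Fintype (GF F G)] (d e : ℕ) (ζ : kˣ) (J : kˣ →* ℂˣ) (χ : GF F G → ℂ) (a : D.I → k) : Prop :=
  ∃ b, b ^ (2 ^ e - 1) = 1 ∧ Lb D d ζ χ (lc D J b) ∧ ∀ i, st D.cs D.h i b = a i

variable {D} {d e : ℕ} {ζ : kˣ} {J : kˣ →* ℂˣ} {b b' : D.I → kˣ}

theorem two_pow_ne (he : 0 < e) : 2 ^ e - 1 ≠ 0 := Nat.sub_ne_zero_of_lt (Nat.one_lt_two_pow he.ne')

theorem exists_lev (h : _root_.Cfsg.Agent.ODD.C2.Good D) : ∃ d e ζ J, Lev D d e ζ J := by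
  obtain ⟨d, e, L⟩ := exists_lvl D
  obtain ⟨ζ, hζ⟩ := exists_prim (p := 2) (k := k) L.e_pos
  obtain ⟨J, hJ⟩ := exists_J (two_pow_ne L.e_pos) hζ
  exact ⟨d, e, ζ, J, h, L, hζ, hJ⟩

theorem chr_lc (v : D.R → ℤ) (b : D.I → kˣ) : chr v (lc D J b) = J (chr (Wt D *ᵥ v) b) :=
  (chr_J J v _).trans (congrArg J (chr_pb _ v b))

theorem chr_lc_pb {B : Matrix D.R D.R ℤ} {Ψ : Matrix D.I D.I ℤ} (h : Wt D * B = Ψ * Wt D) (v : D.R → ℤ) (b : D.I → kˣ) :
    chr v (lc D J (pb Ψ b)) = chr (B *ᵥ v) (lc D J b) := by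
  rw [chr_lc, chr_lc, chr_pb, mulVec_mulVec, mulVec_mulVec, h]

theorem map_tor {M M' : Type} [Monoid M] [Monoid M'] (f : M →* M') {x : M} {n : ℕ} (h : x ^ n = 1) : f x ^ n = 1 := by
  rw [← map_pow, h, map_one]

namespace Lev

variable (V : Lev D d e ζ J)
include V

theorem inj {a a' : kˣ} (ha : a ^ (2 ^ e - 1) = 1) (ha' : a' ^ (2 ^ e - 1) = 1) (h : J a = J a') : a = a' := by
  have : NeZero (2 ^ e - 1) := ⟨two_pow_ne V.lvl.e_pos⟩
  obtain ⟨i, hi, rfl⟩ := V.prim.eq_pow_of_mem_rootsOfUnity ha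
  obtain ⟨j, hj, rfl⟩ := V.prim.eq_pow_of_mem_rootsOfUnity ha'
  rw [V.primJ.pow_inj hi hj (by rwa [← map_pow, ← map_pow])]

theorem lc_inj (hb : b ^ (2 ^ e - 1) = 1) (hb' : b' ^ (2 ^ e - 1) = 1) (h : lc D J b = lc D J b') : b = b' :=
  pb_inj V.good.cz (funext fun r => V.inj (congrFun (map_tor (pb (Wt D)) hb) r)
    (congrFun (map_tor (pb (Wt D)) hb') r) (congrFun h r))

theorem exists_lc {c : D.R → ℂˣ} (hc : c ^ (2 ^ e - 1) = 1) (h : ∀ v, Wt D *ᵥ v = 0 → chr v c = 1) :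
    ∃ b, b ^ (2 ^ e - 1) = 1 ∧ lc D J b = c := by
  have : NeZero (2 ^ e - 1) := ⟨two_pow_ne V.lvl.e_pos⟩
  choose n _ hn using fun r => V.primJ.eq_pow_of_mem_rootsOfUnity (congrFun hc r)
  have h1 : J.compLeft _ (fun r => ζ ^ n r) = c := funext fun r => (map_pow J ζ _).trans (hn r)
  have h2 : (fun r => ζ ^ n r) ^ (2 ^ e - 1) = 1 := funext fun r => by
    rw [Pi.pow_apply, ← pow_mul, mul_comm, pow_mul, V.prim.pow_eq_one, one_pow, Pi.one_apply]
  obtain ⟨b, hb⟩ := exists_pb V.good.cz (c := fun r => ζ ^ n r) fun v hv =>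
    V.inj (map_tor _ h2) (one_pow _) (by rw [← chr_J, h1, h v hv, map_one])
  exact ⟨b, pb_inj V.good.cz (by rw [map_pow, hb, h2, map_one]), (congrArg _ hb).trans h1⟩

variable [Fintype (GF F G)] {χ χ' : GF F G → ℂ} {a a' : D.I → k}

theorem tor {c : D.R → ℂˣ} (h : Lb D d ζ χ c) : c ^ (2 ^ e - 1) = 1 :=
  let ⟨w, hw⟩ := h.fx V.lvl V.prim
  tor_of hw (V.lvl.pow w)

theorem exists_cd (hχ : OddIrr χ) (hz : ∀ z : GF F G, (z : Y) ∈ Zc D → χ z = χ 1) : ∃ a, Cd D d e ζ J χ a := by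
  obtain ⟨c, hc⟩ := exists_lb V.lvl V.prim V.good.qs V.good.cz V.good.hn hχ.1 hχ.2
  obtain ⟨b, h1, rfl⟩ := V.exists_lc (V.tor hc) fun v hv => lb_cen V.lvl V.prim hχ.1 hc V.good.qs hz hv
  exact ⟨_, b, h1, hc, fun _ => rfl⟩

theorem cd_triv (hχ : IsIrrCharacter (GF F G) χ) (h : Cd D d e ζ J χ a) {z : GF F G} (hz : (z : Y) ∈ Zc D) :
    χ z = χ 1 := by
  obtain ⟨b, -, h1, -⟩ := h
  exact lb_triv V.lvl V.prim hχ h1 V.good.qs V.good.cz (fun v hv => by rw [chr_lc, hv, chr_zero, map_one]) hz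

theorem cd_unique (hχ : IsIrrCharacter (GF F G) χ) (h : Cd D d e ζ J χ a) (h' : Cd D d e ζ J χ a') : a = a' := by
  obtain ⟨b, h1, h2, h3⟩ := h
  obtain ⟨b', h1', h2', h3'⟩ := h'
  obtain ⟨u, hu⟩ := h2.rel V.lvl V.prim hχ h2'
  have h4 := V.lc_inj (map_tor _ h1') h1 (ext_chr fun v => (chr_lc_pb (Wt_Wm u) v b').trans (hu v))
  exact funext fun i => by rw [← h3, ← h3', st_congr D.cs D.h (fun v => by rw [← chr_pb, h4]) i]

theorem cd_eq (hχ : OddIrr χ) (hχ' : OddIrr χ') (h : Cd D d e ζ J χ a) (h' : Cd D d e ζ J χ' a) : χ = χ' := by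
  obtain ⟨b, -, h2, h3⟩ := h
  obtain ⟨b', -, h2', h3'⟩ := h'
  obtain ⟨u, hu⟩ := st_inj D.cs D.h fun i => (h3 i).trans (h3' i).symm
  exact Lb.eq V.lvl V.prim V.good.qs V.good.cz V.good.hn hχ.1 hχ.2 hχ'.1 hχ'.2
    (h2.of_rel (u := u) fun v => by rw [← chr_lc_pb (Wt_Wm u), chr_lc, chr_lc, chr_pb, hu]) h2'

omit V in
theorem cd_aut (hα : Sym D α A π ε) (h : Cd D d e ζ J χ a) :
    Cd D d e ζ J (fun g => χ (hα.au.aut g)) fun i => a (π i) ^ 2 ^ ε i := by
  obtain ⟨b, h1, h2, h3⟩ := h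
  refine ⟨pb (Ps π ε) b, map_tor _ h1, ?_, fun i => ?_⟩
  · rw [show lc D J (pb (Ps π ε) b) = _ from ext_chr fun v => (chr_lc_pb hα.wt_mul v b).trans (chr_tr D A v _).symm]
    exact h2.aut hα.au
  · rw [st_map D.cs D.h π ε _ (Ps_single π ε) hα.ps_wp (chr_pb _ · b), h3]

theorem cd_fix (hχ : IsIrrCharacter (GF F G) χ) (h : Cd D d e ζ J χ a) (hα : Sym D α A π ε)
    (h1 : ∀ g, χ (hα.au.aut g) = χ g) : FixL π ε a :=
  congrFun (V.cd_unique hχ (funext h1 ▸ cd_aut hα h :) h)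

theorem cd_F (hχ : IsIrrCharacter (GF F G) χ) (h : Cd D d e ζ J χ a) : FixL D.σ (fun i => D.ex (sr i)) a :=
  V.cd_fix hχ h (Sym.self V.good.qs) fun g => congrArg χ (Subtype.ext g.2.2)

theorem cd_inv (hχ : OddIrr χ) (h : Cd D d e ζ J χ a) (hα : Sym D α A π ε) (h1 : FixL π ε a) (g : GF F G) :
    χ (hα.au.aut g) = χ g :=
  congrFun (V.cd_eq (oddIrr_comp (f := hα.au.aut.toMonoidHom) hα.au.aut.surjective hχ) hχ
    (funext h1 ▸ cd_aut hα h :) h) g

theorem exists_of_fix (ha : FixL D.σ (fun i => D.ex (sr i)) a) : ∃ χ, OddIrr χ ∧ Cd D d e ζ J χ a := by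
  have hF := Sym.self V.good.qs
  obtain ⟨b, hb⟩ := st_surj D.cs D.h a
  obtain ⟨u, hu⟩ := st_inj D.cs D.h (b := b) (b' := pb (Ps D.σ fun i => D.ex (sr i)) b) fun i => by
    rw [st_map D.cs D.h _ _ _ (Ps_single _ _) hF.ps_wp (chr_pb _ · b), hb, hb, ha]
  have h1 : ∀ v, chr (Wt D *ᵥ (D.Wm (D.Fw u) * D.Mx) *ᵥ v) b = chr (Wt D *ᵥ v) b := fun v => by
    rw [← hu (Wt D *ᵥ v), chr_pb, ← D.Mx_Wm, mulVec_mulVec, mulVec_mulVec, mulVec_mulVec, ← Matrix.mul_assoc, hF.wt_mul,
      Matrix.mul_assoc, Wt_Wm, Matrix.mul_assoc]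
  obtain ⟨χ, h2, h3, h4⟩ := exists_of_fx V.lvl V.prim V.good.cz (c := lc D J b) (w := D.Fw u) fun v => by
    rw [chr_lc, chr_lc, h1]
  refine ⟨χ, ⟨h2, h3⟩, b, pb_inj V.good.cz ?_, h4, hb⟩
  rw [map_pow, map_one]
  exact tor_of (fun v => by rw [chr_pb, chr_pb, h1]) (V.lvl.pow _)

theorem cd_gal {σ : ℂ ≃+* ℂ} (hσ : Sig σ) (hχ : IsCharacter (GF F G) χ) (h : Cd D d e ζ J χ a) :
    Cd D d e ζ J (fun g => σ (χ g)) fun i => a i ^ 2 := by
  obtain ⟨b, h1, h2, h3⟩ := h
  refine ⟨b ^ 2, by rw [← pow_mul, mul_comm, pow_mul, h1, one_pow], ?_, fun i => ?_⟩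
  · convert h2.gal σ hχ using 1
    exact funext fun r => Units.ext (by
      rw [map_pow, Pi.pow_apply, Units.val_pow_eq_pow_val]
      exact (hσ.2 _ _ (Nat.Even.sub_odd Nat.one_le_two_pow (Nat.even_pow.2 ⟨even_two, V.lvl.e_pos.ne'⟩) odd_one)
        (congrArg Units.val (congrFun (V.tor h2) r))).symm)
  · beta_reduce
    rw [← h3, st, st, CharTwo.sum_sq]
    simp only [map_pow, Units.val_pow_eq_pow_val]

theorem cd_mul {z : D.I → kˣ} (hb : b ^ (2 ^ e - 1) = 1) (hz : z ^ (2 ^ e - 1) = 1) (h1 : ∀ j, chr (D.A j) z = 1)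
    (h2 : Lb D d ζ χ (lc D J b * lc D J z)) : Cd D d e ζ J χ fun i => z i * st D.cs D.h i b :=
  ⟨b * z, by rw [mul_pow, hb, hz, mul_one], by rwa [map_mul], fun i => st_mul D.cs D.h h1 i b⟩

theorem cd_tw (h : Cd D d e ζ J χ a) (β : GF F G →* ℂˣ) (hβ : ∀ g : GF F G, (g : Y) ∈ Gd D → β g = 1)
    (hu : ∀ g : GF F G, IsUni 2 (g : Y) → β g = 1) (hχ : IsIrrCharacter (GF F G) χ)
    (hz : ∀ z : GF F G, (z : Y) ∈ Zc D → β z * χ z = χ 1) :
    ∃ z : D.I → kˣ, (∀ j, chr (D.A j) z = 1) ∧ Cd D d e ζ J (fun g => β g * χ g) fun i => z i * a i := by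
  obtain ⟨b, h1, h2, h3⟩ := h
  obtain ⟨c, h4, h5, -⟩ := lb_tw V.lvl V.prim h2 β hβ hu
  have h6 := V.tor h5
  rw [mul_pow, map_tor _ h1, one_mul] at h6
  obtain ⟨z, h7, rfl⟩ := V.exists_lc h6 fun v hv => by
    have h8 := lb_cen V.lvl V.prim (ODD.Red.isIrr_lin_mul β hχ) h5 V.good.qs
      (fun z h => by rw [hz z h, map_one, Units.val_one, one_mul]) hv
    rwa [map_mul, chr_lc, hv, chr_zero, map_one, one_mul] at h8
  have h8 : ∀ j, chr (D.A j) z = 1 := fun j =>
    V.inj (map_tor _ h7) (one_pow _) (by rw [map_one, ← h4 j, chr_lc, Wt_cw])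
  exact ⟨z, h8, funext h3 ▸ V.cd_mul h1 h7 h8 h5⟩

theorem cd_det {X : Type} [Group X] {ι : X →* Y} (hD : Det D ι) (hsc : ∀ y ∈ GF F G, y ∈ Gd D → y ∈ ι.range)
    (h : Cd D d e ζ J χ a) {z : D.I → kˣ} (h1 : ∀ j, chr (D.A j) z = 1)
    (h2 : FixL D.σ (fun i => D.ex (sr i)) fun i => (z i : k)) : ∃ β : GF F G →* ℂˣ,
      (∀ g : GF F G, (g : Y) ∈ ι.range → β g = 1) ∧ Cd D d e ζ J (fun g => β g * χ g) fun i => z i * a i := by
  obtain ⟨δ, ν, v, ω, m, d1, d2, d3, d4, -, d6⟩ := hD.ex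
  obtain ⟨b, b1, b2, b3⟩ := h
  have : NeZero (2 ^ e - 1) := ⟨two_pow_ne V.lvl.e_pos⟩
  have hM := V.lvl.pow 1
  rw [D.Wm_one, one_mul] at hM
  have z1 : ∀ u, chr (D.Mx *ᵥ u) (pb (Wt D) z) = chr u (pb (Wt D) z) := fun u => by
    rw [chr_pb, chr_pb, mulVec_mulVec, (Sym.self V.good.qs).wt_mul, ← mulVec_mulVec, ← chr_pb (Ps _ _),
      show pb (Ps _ _) z = z from funext fun i => (pb_Ps _ _ z i).trans (Units.ext (h2 i))]
  have z2 := tor_of z1 hM
  obtain ⟨s, -, hs⟩ := V.prim.eq_pow_of_mem_rootsOfUnity (map_tor (chr v) z2)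
  have z3 : pb (Wt D) z = coch ν (ζ ^ s) := funext fun r => by
    rw [← chr_single r (pb _ z), show Pi.single r 1 = ∑ i, ω i r • D.cw i + ν r • v from funext fun j => by
      simpa only [Pi.single_apply, eq_comm, _root_.zsmul_eq_mul, _root_.Pi.add_apply, _root_.Finset.sum_apply, _root_.Pi.mul_apply, _root_.Pi.intCast_apply, _root_.Int.cast_eq] using (d6 r j).symm, chr_add, chr_sum, chr_zsmul, ← hs, Finset.prod_eq_one, one_mul,
      coch_apply]
    exact fun i _ => by rw [chr_zsmul, chr_pb, Wt_cw, h1, _root_.one_zpow]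
  have n1 : ν ᵥ* D.Mx = m • ν := chr_inj (k := k) fun c => by rw [← chr_mon, ← d2, ← D.F_τ, d1, d2, chr_zsmul]
  have n2 : ∀ j, ν ᵥ* D.Mx ^ j = m ^ j • ν := fun j => by
    induction j with
    | zero => simp
    | succ j ih => rw [pow_succ, ← vecMul_vecMul, ih, smul_vecMul, n1, smul_smul, pow_succ]
  have n3 : (∑ i ∈ Finset.range d, m ^ i) * (m - 1) = (2 ^ e - 1 : ℕ) := by
    have := congrArg (· ⬝ᵥ v) (n2 d)
    simp only [hM, vecMul_smul, vecMul_one, smul_dotProduct, d4, smul_eq_mul, mul_one] at this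
    rw [geom_sum_mul, ← this, Nat.cast_sub Nat.one_le_two_pow, Nat.cast_pow, Nat.cast_one]
  obtain ⟨x, hx⟩ : ∑ i ∈ Finset.range d, m ^ i ∣ s := by
    refine Int.dvd_of_mul_dvd_mul_right (a := m - 1) (fun e0 => NeZero.ne (2 ^ e - 1) ?_) ?_
    · rw [e0, mul_zero] at n3
      exact_mod_cast n3.symm
    · have := z1 v
      rw [← hs, z3, chr_coch, show ∑ j, (D.Mx *ᵥ v) j * ν j = m by
        rw [← mul_one m, ← d4, ← smul_eq_mul, ← smul_dotProduct, ← n1, ← dotProduct_mulVec, dotProduct_comm]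
        rfl] at this
      rw [n3, ← V.prim.zpow_eq_one_iff_dvd, _root_.zpow_mul, zpow_natCast, _root_.zpow_sub_one, this, mul_inv_cancel]
  have n4 : ∀ j y, δ ((F ^ j) y) = δ y ^ m ^ j := fun j y => by
    induction j with
    | zero => simp
    | succ j ih => rw [pow_succ', MulAut.mul_apply, d1, ih, ← _root_.zpow_mul, pow_succ]
  have n5 : ∀ j y, δ (nrm F j y) = δ y ^ ∑ i ∈ Finset.range j, m ^ i := fun j y => by
    induction j with
    | zero => simp [nrm_zero]
    | succ j ih => rw [nrm_succ, map_mul, ih, n4, Finset.sum_range_succ, _root_.zpow_add]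
  let β : GF F G →* ℂˣ := J.comp ((zpowGroupHom x).comp (δ.comp (GF F G).subtype))
  have e1 : ∀ g : GF F G, δ g = 1 → β g = 1 := fun g hg => by
    simp only [β, hg, _root_.MonoidHom.coe_comp, _root_.Subgroup.coe_subtype, _root_.Function.comp_apply, _root_.zpowGroupHom_apply, _root_.one_zpow, _root_.map_one]
  have e2 : ∀ g : GF F G, (g : Y) ∈ ι.range → β g = 1 := fun g hg => e1 g ((d3 g g.2).1 hg)
  obtain ⟨c, -, h5, y, hy, w, hw, h6⟩ := lb_tw V.lvl V.prim b2 β (fun g hg => e2 g (hsc g g.2 hg))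
    fun g ⟨n, hn⟩ => e1 g (eq_one_of_pow (m := n) (by rw [← map_pow, ← hn, pow_orderOf_eq_one, map_one]))
  obtain rfl : lc D J z = c := ext_chr fun u => by
    rw [← h6 u ⟨_, (nrm_mem V.lvl V.prim hy hw u).2⟩ rfl, chr_lc, ← chr_pb, z3, chr_coch]
    refine congrArg J ?_
    show _ = δ (nrm F d _) ^ x
    rw [n5, map_mul, map_mul, map_inv, mul_inv_cancel_comm, d2, chr_coch, ← zpow_natCast, hx, ← _root_.zpow_mul, ← _root_.zpow_mul,
      ← _root_.zpow_mul, mul_comm]
    simp only [mul_comm]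
  exact ⟨β, e2, funext b3 ▸ V.cd_mul b1 (pb_inj V.good.cz (by rw [map_pow, z2, map_one])) h1 h5⟩

end Lev

end Cfsg.Agent.GAL.C2

private theorem dce_129ab7b9f411 : _root_.True := by
  try have : _root_.True := by simp only [_root_.Cfsg.Agent.GAL.C2.Ps.eq_1]
  exact _root_.True.intro
end
end
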